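import Cfsg.Agent.H780.D4.Stmts

/-!
# S5261, piece D3-L1: the group `Q₁`, the automorphisms acting trivially on `Q₁ / Z₁`, the torus (helper131)

* coordinates in `Q₁`, the centre;
* `CQ φ`: the automorphisms acting trivially on `Q₁ / Z₁`: normal, a `p`-group;
* `TQ φ`: the restrictions of the torus, of order prime to `p`, normalized by the Weyl element.
-/

set_option autoImplicit false
set_option linter.unusedSectionVars false

namespace Cfsg.Agent.H131.D3L1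

open Cfsg Cfsg.FusionSystem Cfsg.Agent.H765.D3 Cfsg.Agent.H780.D4 Cfsg.Agent.H802
open Cfsg.Agent.H765.D3.Sy (Q1 Q2 Z1 Z2 Z3 Z4 u1 u2 u3 u4 u5 u6 form)
open Cfsg.Agent.Hex.Defs (sh cr nm tr)
open scoped commutatorElement

universe u

variable {F K : Type u} [Field F] [Field K] [Algebra F K] {φ : K ≃ₐ[F] K} [Cub φ]

/-! ### Coordinates in `Q₁` -/

theorem q1 (e : Q1 φ) : (e : Sy φ).x1 = 0 := e.2

theorem q6 (e f : Q1 φ) : ((e * f : Q1 φ) : Sy φ).x6 = (e : Sy φ).x6 + (f : Sy φ).x6 := rfl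

theorem q5 (e f : Q1 φ) : ((e * f : Q1 φ) : Sy φ).x5 = (e : Sy φ).x5 + (f : Sy φ).x5 := by
  rw [Subgroup.coe_mul, Sy.mul_x5, q1 e, smul_zero, add_zero]

theorem q3 (e f : Q1 φ) : ((e * f : Q1 φ) : Sy φ).x3 = (e : Sy φ).x3 + (f : Sy φ).x3 := by
  rw [Subgroup.coe_mul, Sy.mul_x3, q1 e, cr_zero_left, sh_zero, smul_zero, add_zero, add_zero]

theorem q2 (e f : Q1 φ) : ((e * f : Q1 φ) : Sy φ).x2 = (e : Sy φ).x2 + (f : Sy φ).x2 := by
  rw [Subgroup.coe_mul, Sy.mul_x2, q1 e, zero_mul, tr_zero, sh_zero, zero_mul, tr_zero, nm_zero, mul_zero,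
    add_zero, add_zero, add_zero]

theorem q4 (e f : Q1 φ) : ((e * f : Q1 φ) : Sy φ).x4 = (e : Sy φ).x4 + (f : Sy φ).x4
    - (e : Sy φ).x2 * (f : Sy φ).x6 + tr φ ((e : Sy φ).x3 * (f : Sy φ).x5) := by
  rw [Subgroup.coe_mul, Sy.mul_x4, q1 e, zero_mul, tr_zero, sh_zero, zero_mul, tr_zero, nm_zero, mul_zero,
    mul_zero, smul_zero, add_zero, add_zero, add_zero, add_zero]

theorem ext5 {e f : Q1 φ} (h6 : (e : Sy φ).x6 = (f : Sy φ).x6) (h5 : (e : Sy φ).x5 = (f : Sy φ).x5)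
    (h3 : (e : Sy φ).x3 = (f : Sy φ).x3) (h2 : (e : Sy φ).x2 = (f : Sy φ).x2)
    (h4 : (e : Sy φ).x4 = (f : Sy φ).x4) : e = f := by
  apply Subtype.ext
  ext
  · rw [q1, q1]
  · exact h6
  · exact h5
  · exact h3
  · exact h2
  · exact h4

variable (φ) in
/-- root elements in `Q₁` -/
def U6 (a : F) : Q1 φ := ⟨u6 φ a, rfl⟩
variable (φ) in
/-- root elements in `Q₁` -/
def U5 (a : K) : Q1 φ := ⟨u5 φ a, rfl⟩
variable (φ) in
/-- root elements in `Q₁` -/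
def U3 (a : K) : Q1 φ := ⟨u3 φ a, rfl⟩
variable (φ) in
/-- root elements in `Q₁` -/
def U2 (a : F) : Q1 φ := ⟨u2 φ a, rfl⟩
variable (φ) in
/-- root elements in `Q₁` -/
def U4 (a : F) : Q1 φ := ⟨u4 φ a, rfl⟩

theorem U6_add (a b : F) : U6 φ (a + b) = U6 φ a * U6 φ b := Subtype.ext (Sy.u6_add a b)
theorem U5_add (a b : K) : U5 φ (a + b) = U5 φ a * U5 φ b := Subtype.ext (Sy.u5_add a b)
theorem U3_add (a b : K) : U3 φ (a + b) = U3 φ a * U3 φ b := Subtype.ext (Sy.u3_add a b)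
theorem U2_add (a b : F) : U2 φ (a + b) = U2 φ a * U2 φ b := Subtype.ext (Sy.u2_add a b)
theorem U4_add (a b : F) : U4 φ (a + b) = U4 φ a * U4 φ b := Subtype.ext (Sy.u4_add a b)

theorem decomp (e : Q1 φ) : e = U6 φ (e : Sy φ).x6 * U5 φ (e : Sy φ).x5 * U3 φ (e : Sy φ).x3 *
    U2 φ (e : Sy φ).x2 * U4 φ (e : Sy φ).x4 := by
  apply Subtype.ext
  have h := Sy.eq_prod (e : Sy φ)
  rw [q1 e, show u1 φ 0 = 1 from rfl, mul_one] at h
  exact h

/-! ### The centre -/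

theorem mem_center_iff {z : Q1 φ} : z ∈ Subgroup.center (Q1 φ) ↔ (z : Sy φ) ∈ Z1 φ := by
  rw [← Sy.centralizer_Q1, Subgroup.mem_center_iff, Subgroup.mem_centralizer_iff]
  constructor
  · intro h x hx
    exact congrArg Subtype.val (h ⟨x, hx⟩)
  · intro h x
    exact Subtype.ext (h x x.2)

theorem center_eq_U4 {z : Q1 φ} (hz : z ∈ Subgroup.center (Q1 φ)) : z = U4 φ (z : Sy φ).x4 :=
  Subtype.ext (Sy.eq_u4 (mem_center_iff.1 hz))

theorem U4_mem_center (w : F) : U4 φ w ∈ Subgroup.center (Q1 φ) := mem_center_iff.2 (Sy.u4_mem w)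

theorem map_center {α : MulAut (Q1 φ)} {z : Q1 φ} (hz : z ∈ Subgroup.center (Q1 φ)) :
    α z ∈ Subgroup.center (Q1 φ) := by
  rw [Subgroup.mem_center_iff] at hz ⊢
  intro g
  have := congrArg α (hz (α.symm g))
  rwa [map_mul, map_mul, MulEquiv.apply_symm_apply] at this

theorem U4_pow (w : F) (k : ℕ) : U4 φ w ^ k = U4 φ (k * w) := by
  induction k with
  | zero =>
    rw [pow_zero, Nat.cast_zero, zero_mul]
    rfl
  | succ k ih =>
    rw [pow_succ, ih, ← U4_add]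
    congr 1
    push_cast
    ring

/-! ### Automorphisms trivial on `Q₁ / Z₁` -/

variable (φ) in
/-- the automorphisms acting trivially on `Q₁ / Z₁` -/
def CQ : Subgroup (MulAut (Q1 φ)) where
  carrier := {c | Same1 c 1}
  one_mem' := fun _ => ⟨rfl, rfl, rfl, rfl⟩
  mul_mem' := by
    intro a b ha hb e
    obtain ⟨h1, h2, h3, h4⟩ := ha (b e)
    obtain ⟨k1, k2, k3, k4⟩ := hb e
    exact ⟨h1.trans k1, h2.trans k2, h3.trans k3, h4.trans k4⟩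
  inv_mem' := by
    intro a ha e
    obtain ⟨h1, h2, h3, h4⟩ := ha (a⁻¹ e)
    rw [show a (a⁻¹ e) = e from a.apply_symm_apply e] at h1 h2 h3 h4
    exact ⟨h1.symm, h2.symm, h3.symm, h4.symm⟩

theorem mem_CQ {c : MulAut (Q1 φ)} : c ∈ CQ φ ↔ ∀ e, e⁻¹ * c e ∈ Subgroup.center (Q1 φ) := by
  constructor
  · intro h e
    obtain ⟨h1, h2, h3, h4⟩ := h e
    have hz : c e = e * (e⁻¹ * c e) := by group
    set z := e⁻¹ * c e
    rw [hz, q6] at h1
    rw [hz, q5] at h2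
    rw [hz, q3] at h3
    rw [hz, q2] at h4
    rw [mem_center_iff]
    exact ⟨q1 z, by simpa using h1, by simpa using h2, by simpa using h3, by simpa using h4⟩
  · intro h e
    have hz : c e = e * (e⁻¹ * c e) := by group
    obtain ⟨-, h1, h2, h3, h4⟩ := mem_center_iff.1 (h e)
    rw [hz, q6, q5, q3, q2, h1, h2, h3, h4]
    simp

theorem same_iff {γ δ : MulAut (Q1 φ)} : Same1 γ δ ↔ γ * δ⁻¹ ∈ CQ φ := by
  constructor
  · intro h e
    obtain ⟨h1, h2, h3, h4⟩ := h (δ⁻¹ e)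
    rw [show δ (δ⁻¹ e) = e from δ.apply_symm_apply e] at h1 h2 h3 h4
    exact ⟨h1, h2, h3, h4⟩
  · intro h e
    obtain ⟨h1, h2, h3, h4⟩ := h (δ e)
    rw [MulAut.mul_apply, show δ⁻¹ (δ e) = e from δ.symm_apply_apply e] at h1 h2 h3 h4
    exact ⟨h1, h2, h3, h4⟩

instance CQ_normal : (CQ φ).Normal := by
  refine ⟨fun c hc γ => ?_⟩
  rw [mem_CQ] at hc ⊢
  intro e
  rw [MulAut.mul_apply, MulAut.mul_apply]
  set f := γ⁻¹ e with hf
  have h1 : γ f = e := γ.apply_symm_apply e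
  have h2 : c f = f * (f⁻¹ * c f) := by group
  rw [h2, map_mul, h1, inv_mul_cancel_left]
  exact map_center (hc f)

theorem coe_comm (e f : Q1 φ) : ((⁅e, f⁆ : Q1 φ) : Sy φ) = ⁅(e : Sy φ), (f : Sy φ)⁆ := by
  rw [commutatorElement_def, commutatorElement_def]
  rfl

theorem comm_eq (e f : Q1 φ) : ⁅e, f⁆ = U4 φ (form (e : Sy φ) (f : Sy φ)) := by
  apply Subtype.ext
  rw [coe_comm, Sy.comm_Q1 e.2 f.2]
  rfl

theorem U4_eq_comm (w : F) : U4 φ w = ⁅U6 φ 1, U2 φ w⁆ := by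
  rw [comm_eq]
  congr 1
  change w = 1 * w - 0 * 0 - tr φ (0 * 0) + tr φ (0 * 0)
  rw [mul_zero, mul_zero, tr_zero]
  ring

theorem CQ_comm {c : MulAut (Q1 φ)} (hc : c ∈ CQ φ) (e f : Q1 φ) : ⁅c e, c f⁆ = ⁅e, f⁆ := by
  rw [comm_eq, comm_eq]
  obtain ⟨h1, h2, h3, h4⟩ := hc e
  obtain ⟨k1, k2, k3, k4⟩ := hc f
  congr 1
  unfold form
  rw [h1, h2, h3, h4, k1, k2, k3, k4]
  rfl

theorem CQ_center {c : MulAut (Q1 φ)} (hc : c ∈ CQ φ) {z : Q1 φ} (hz : z ∈ Subgroup.center (Q1 φ)) : c z = z := by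
  rw [center_eq_U4 hz, U4_eq_comm, map_commutatorElement, CQ_comm hc]

theorem CQ_pow {α : MulAut (Q1 φ)} (hα : α ∈ CQ φ) (e : Q1 φ) (k : ℕ) :
    (α ^ k) e = e * (e⁻¹ * α e) ^ k := by
  induction k with
  | zero => simp
  | succ k ih =>
    rw [pow_succ', MulAut.mul_apply, ih, map_mul, map_pow, CQ_center hα (mem_CQ.1 hα e), pow_succ',
      ← mul_assoc, mul_inv_cancel_left]

section field
variable {p n : ℕ}

theorem two_le_q (h : HypD φ p n) : 2 ≤ p ^ n := by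
  have h1 : p ^ 1 ≤ p ^ n := Nat.pow_le_pow_right h.pp.pos h.hn
  have := h.pp.two_le
  rw [pow_one] at h1
  omega

theorem finF (h : HypD φ p n) : Finite F := by
  apply Nat.finite_of_card_ne_zero
  rw [h.card]
  have := two_le_q h
  omega

theorem p_zero (h : HypD φ p n) : (p : F) = 0 := by
  have := h.char
  apply (algebraMap F K).injective
  rw [map_natCast, map_zero]
  exact CharP.cast_eq_zero K p

theorem CQ_pgroup (h : HypD φ p n) : IsPGroup p (CQ φ) := by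
  rintro ⟨α, hα⟩
  refine ⟨1, ?_⟩
  apply Subtype.ext
  change α ^ (p ^ 1) = 1
  apply MulEquiv.ext
  intro e
  rw [CQ_pow hα, pow_one, center_eq_U4 (mem_CQ.1 hα e), U4_pow, p_zero h, zero_mul,
    show U4 φ 0 = 1 from rfl, mul_one]
  rfl

/-- an element whose norm is not one -/
theorem exists_nm (h : HypD φ p n) (h2 : p ^ n ≠ 2) : ∃ s : K, s ≠ 0 ∧ nm φ s ≠ 1 := by
  have := h.fin
  by_contra hcon
  push Not at hcon
  have h3 : ∀ s : Kˣ, s ^ (1 + p ^ n + p ^ n * p ^ n) = 1 := by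
    intro s
    apply Units.ext
    rw [Units.val_pow_eq_pow_val, Units.val_one, pow_add, pow_add, pow_one, pow_mul, ← h.phi, ← h.phi,
      ← coe_nm, hcon s s.ne_zero, map_one]
  have h4 := Monoid.exponent_dvd_of_forall_pow_eq_one h3
  rw [IsCyclic.exponent_eq_card, Nat.card_units, h.cardK] at h4
  have h5 := Nat.le_of_dvd (by positivity) h4
  have h6 := two_le_q h
  obtain ⟨k, hk⟩ : ∃ k, p ^ n = k + 3 := ⟨p ^ n - 3, by omega⟩
  rw [hk] at h5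
  have h7 : (k + 3) ^ 3 - 1 = k ^ 3 + 9 * k ^ 2 + 27 * k + 26 := by
    have : (k + 3) ^ 3 = k ^ 3 + 9 * k ^ 2 + 27 * k + 27 := by ring
    omega
  rw [h7] at h5
  nlinarith [Nat.zero_le (k ^ 3), Nat.zero_le (k ^ 2)]

end field

/-! ### The torus -/

/-- `δ` is the restriction of the torus element with parameters `s`, `t` -/
structure IsTQ (δ : MulAut (Q1 φ)) (s : K) (t : F) : Prop where
  nes : s ≠ 0
  net : t ≠ 0
  x6 : ∀ e : Q1 φ, ((δ e : Q1 φ) : Sy φ).x6 = t * (e : Sy φ).x6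
  x5 : ∀ e : Q1 φ, ((δ e : Q1 φ) : Sy φ).x5 = t • (s * (e : Sy φ).x5)
  x3 : ∀ e : Q1 φ, ((δ e : Q1 φ) : Sy φ).x3 = t • (sh φ s * (e : Sy φ).x3)
  x2 : ∀ e : Q1 φ, ((δ e : Q1 φ) : Sy φ).x2 = nm φ s * t * (e : Sy φ).x2
  x4 : ∀ e : Q1 φ, ((δ e : Q1 φ) : Sy φ).x4 = nm φ s * t ^ 2 * (e : Sy φ).x4

theorem sh_one : sh φ 1 = 1 := by
  unfold sh
  rw [map_one, map_one, mul_one]

theorem nm_inv (s : K) : nm φ s⁻¹ = (nm φ s)⁻¹ := by
  by_cases hs : s = 0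
  · rw [hs, inv_zero, nm_zero, inv_zero]
  · apply eq_inv_of_mul_eq_one_left
    rw [← nm_mul, inv_mul_cancel₀ hs, nm_one]

theorem sh_inv (s : K) : sh φ s⁻¹ = (sh φ s)⁻¹ := by
  unfold sh
  rw [map_inv₀, map_inv₀, mul_inv]

theorem IsTQ.one : IsTQ (1 : MulAut (Q1 φ)) 1 1 where
  nes := one_ne_zero
  net := one_ne_zero
  x6 e := by rw [MulAut.one_apply, one_mul]
  x5 e := by rw [MulAut.one_apply, one_mul, one_smul]
  x3 e := by rw [MulAut.one_apply, sh_one, one_mul, one_smul]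
  x2 e := by rw [MulAut.one_apply, nm_one, one_mul, one_mul]
  x4 e := by rw [MulAut.one_apply, nm_one, one_mul, one_pow, one_mul]

theorem IsTQ.mul {δ δ' : MulAut (Q1 φ)} {s s' : K} {t t' : F} (h : IsTQ δ s t) (h' : IsTQ δ' s' t') :
    IsTQ (δ * δ') (s * s') (t * t') where
  nes := mul_ne_zero h.nes h'.nes
  net := mul_ne_zero h.net h'.net
  x6 e := by rw [MulAut.mul_apply, h.x6, h'.x6]; ring
  x5 e := by rw [MulAut.mul_apply, h.x5, h'.x5]; cub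
  x3 e := by rw [MulAut.mul_apply, h.x3, h'.x3]; cub
  x2 e := by rw [MulAut.mul_apply, h.x2, h'.x2, nm_mul]; ring
  x4 e := by rw [MulAut.mul_apply, h.x4, h'.x4, nm_mul]; ring

theorem IsTQ.pow {δ : MulAut (Q1 φ)} {s : K} {t : F} (h : IsTQ δ s t) (k : ℕ) :
    IsTQ (δ ^ k) (s ^ k) (t ^ k) := by
  induction k with
  | zero =>
    rw [pow_zero, pow_zero, pow_zero]
    exact IsTQ.one
  | succ k ih =>
    rw [pow_succ, pow_succ, pow_succ]
    exact ih.mul h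

theorem IsTQ.inv {δ : MulAut (Q1 φ)} {s : K} {t : F} (h : IsTQ δ s t) : IsTQ δ⁻¹ s⁻¹ t⁻¹ := by
  have hs := h.nes
  have ht := h.net
  have hn : nm φ s ≠ 0 := fun h0 => hs ((nm_eq_zero φ).1 h0)
  have hsh : sh φ s ≠ 0 := fun h0 => hs ((sh_eq_zero φ).1 h0)
  have e1 : ∀ e : Q1 φ, δ (δ⁻¹ e) = e := fun e => δ.apply_symm_apply e
  refine ⟨inv_ne_zero hs, inv_ne_zero ht, ?_, ?_, ?_, ?_, ?_⟩ <;> intro e
  · have := h.x6 (δ⁻¹ e)
    rw [e1] at this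
    rw [this, inv_mul_cancel_left₀ ht]
  · have := h.x5 (δ⁻¹ e)
    rw [e1] at this
    rw [this, mul_smul_comm, inv_mul_cancel_left₀ hs, smul_smul, inv_mul_cancel₀ ht, one_smul]
  · have := h.x3 (δ⁻¹ e)
    rw [e1] at this
    rw [this, sh_inv, mul_smul_comm, inv_mul_cancel_left₀ hsh, smul_smul, inv_mul_cancel₀ ht, one_smul]
  · have := h.x2 (δ⁻¹ e)
    rw [e1] at this
    rw [this, nm_inv]
    field_simp
  · have := h.x4 (δ⁻¹ e)
    rw [e1] at this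
    rw [this, nm_inv]
    field_simp

theorem IsTQ.eq {δ δ' : MulAut (Q1 φ)} {s : K} {t : F} (h : IsTQ δ s t) (h' : IsTQ δ' s t) : δ = δ' := by
  apply MulEquiv.ext
  intro e
  exact ext5 (by rw [h.x6, h'.x6]) (by rw [h.x5, h'.x5]) (by rw [h.x3, h'.x3]) (by rw [h.x2, h'.x2])
    (by rw [h.x4, h'.x4])

variable (φ) in
/-- the torus, acting on `Q₁` -/
def TQ : Subgroup (MulAut (Q1 φ)) where
  carrier := {δ | ∃ s t, IsTQ δ s t}
  one_mem' := ⟨1, 1, IsTQ.one⟩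
  mul_mem' := by
    rintro a b ⟨s, t, h⟩ ⟨s', t', h'⟩
    exact ⟨_, _, h.mul h'⟩
  inv_mem' := by
    rintro a ⟨s, t, h⟩
    exact ⟨_, _, h.inv⟩

theorem TQ_coprime {p n : ℕ} (h : HypD φ p n) : (Nat.card (TQ φ)).Coprime p := by
  have := h.fin
  have := finF h
  have : Fact p.Prime := ⟨h.pp⟩
  rw [Nat.coprime_comm, h.pp.coprime_iff_not_dvd]
  intro hd
  obtain ⟨⟨δ, hδ⟩, ho⟩ := exists_prime_orderOf_dvd_card' p hd
  obtain ⟨s, t, hst⟩ := hδ
  have ho' : orderOf δ = p := by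
    rw [← ho]
    exact (Subgroup.orderOf_mk δ _).symm
  have : Fintype K := Fintype.ofFinite K
  have : Fintype F := Fintype.ofFinite F
  have hs : s ^ (Nat.card K - 1) = 1 := by
    rw [Nat.card_eq_fintype_card]
    exact FiniteField.pow_card_sub_one_eq_one s hst.nes
  have ht : t ^ (Nat.card K - 1) = 1 := by
    apply (algebraMap F K).injective
    rw [map_pow, map_one, Nat.card_eq_fintype_card]
    apply FiniteField.pow_card_sub_one_eq_one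
    intro h0
    exact hst.net ((algebraMap F K).injective (by rw [h0, map_zero]))
  have h1 := hst.pow (Nat.card K - 1)
  rw [hs, ht] at h1
  have h2 := orderOf_dvd_of_pow_eq_one (h1.eq IsTQ.one)
  rw [ho', h.cardK] at h2
  have h3 : p ∣ (p ^ n) ^ 3 := dvd_pow (dvd_pow_self p (by have := h.hn; omega)) (by norm_num)
  have h4 : 1 ≤ (p ^ n) ^ 3 := Nat.one_le_pow _ _ (by have := two_le_q h; omega)
  have h5 : p ∣ 1 := by
    have := (Nat.dvd_sub h3 h2)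
    rwa [Nat.sub_sub_self h4] at this
  exact h.pp.one_lt.ne' (Nat.dvd_one.1 h5)

/-! ### The Weyl element -/

theorem w1_conj {w δ : MulAut (Q1 φ)} {s : K} {t : F} (hw : IsW1 w) (h : IsTQ δ s t) :
    IsTQ (w * δ * w⁻¹) s⁻¹ (nm φ s * t) := by
  have hs := h.nes
  have ht := h.net
  have hn : nm φ s ≠ 0 := fun h0 => hs ((nm_eq_zero φ).1 h0)
  have hsh : sh φ s ≠ 0 := fun h0 => hs ((sh_eq_zero φ).1 h0)
  have e1 : ∀ e : Q1 φ, w (w⁻¹ e) = e := fun e => w.apply_symm_apply e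
  have hss : sh φ s * s = algebraMap F K (nm φ s) := sh_mul_self φ s
  have e6 : ∀ e : Q1 φ, (e : Sy φ).x6 = -((w⁻¹ e : Q1 φ) : Sy φ).x2 := fun e => by rw [← hw.x6, e1]
  have e5 : ∀ e : Q1 φ, (e : Sy φ).x5 = ((w⁻¹ e : Q1 φ) : Sy φ).x3 := fun e => by rw [← hw.x5, e1]
  have e3 : ∀ e : Q1 φ, (e : Sy φ).x3 = -((w⁻¹ e : Q1 φ) : Sy φ).x5 := fun e => by rw [← hw.x3, e1]
  have e2 : ∀ e : Q1 φ, (e : Sy φ).x2 = ((w⁻¹ e : Q1 φ) : Sy φ).x6 := fun e => by rw [← hw.x2, e1]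
  have e4 : ∀ e : Q1 φ, (e : Sy φ).x4 = ((w⁻¹ e : Q1 φ) : Sy φ).x4 +
      ((w⁻¹ e : Q1 φ) : Sy φ).x2 * ((w⁻¹ e : Q1 φ) : Sy φ).x6 -
      tr φ (((w⁻¹ e : Q1 φ) : Sy φ).x3 * ((w⁻¹ e : Q1 φ) : Sy φ).x5) := fun e => by rw [← hw.x4, e1]
  refine ⟨inv_ne_zero hs, mul_ne_zero hn ht, ?_, ?_, ?_, ?_, ?_⟩ <;> intro e <;>
    rw [MulAut.mul_apply, MulAut.mul_apply]
  · rw [hw.x6, h.x2, e6 e]
    ring
  · rw [hw.x5, h.x3, e5 e, Algebra.smul_def, Algebra.smul_def, map_mul, ← hss]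
    field_simp
  · rw [hw.x3, h.x5, e3 e, Algebra.smul_def, Algebra.smul_def, map_mul, ← hss, sh_inv]
    field_simp
  · rw [hw.x2, h.x6, e2 e, nm_inv]
    field_simp
  · rw [hw.x4, h.x4, h.x2, h.x6, h.x3, h.x5, e4 e, nm_inv]
    have : tr φ (t • (sh φ s * ((w⁻¹ e : Q1 φ) : Sy φ).x3) * t • (s * ((w⁻¹ e : Q1 φ) : Sy φ).x5)) =
        nm φ s * t ^ 2 * tr φ (((w⁻¹ e : Q1 φ) : Sy φ).x3 * ((w⁻¹ e : Q1 φ) : Sy φ).x5) := by
      fk φ
    rw [this]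
    field_simp

end Cfsg.Agent.H131.D3L1
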