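import Cfsg.Agent.H131.D3L1.Basic

/-!
# S5261, piece D3-L1: `StL1` from `StL1a`, `StNLift`, `StGrpD` (helper131)
-/

set_option autoImplicit false
set_option linter.unusedSectionVars false

namespace Cfsg.Agent.H131.D3L1

open Cfsg Cfsg.FusionSystem Cfsg.Agent.H765.D3 Cfsg.Agent.H780.D4 Cfsg.Agent.H802
open Cfsg.Agent.H765.D3.Sy (Q1 Q2 Z1 Z2 Z3 Z4 u1 u2 u3 u4 u5 u6 form)
open Cfsg.Agent.Hex.Defs (sh cr nm tr)
open scoped commutatorElement

universe u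

variable {F K : Type u} [Field F] [Field K] [Algebra F K] {φ : K ≃ₐ[F] K} [Cub φ] {p n : ℕ}

/-! ### The function `ψ` of an element of `CQ` -/

/-- `c e = e u4 (ψ e)` -/
noncomputable def psi (c : MulAut (Q1 φ)) (e : Q1 φ) : F := ((c e : Q1 φ) : Sy φ).x4 - (e : Sy φ).x4

theorem psi_spec {c : MulAut (Q1 φ)} (hc : c ∈ CQ φ) (e : Q1 φ) : c e = e * U4 φ (psi c e) := by
  have h1 := center_eq_U4 (mem_CQ.1 hc e)
  have h2 : c e = e * (e⁻¹ * c e) := by group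
  generalize e⁻¹ * c e = z at h1 h2
  have h3 : (z : Sy φ).x4 = psi c e := by
    unfold psi
    rw [h2, q4, h1]
    change _ = _ + _ - _ * 0 + tr φ (_ * 0) - _
    rw [mul_zero, mul_zero, tr_zero]
    ring
  rw [h2, ← h3, ← h1]

theorem psi_mul {c : MulAut (Q1 φ)} (hc : c ∈ CQ φ) (e f : Q1 φ) : psi c (e * f) = psi c e + psi c f := by
  obtain ⟨h1, h2, h3, h4⟩ := hc e
  obtain ⟨k1, k2, k3, k4⟩ := hc f
  unfold psi
  rw [map_mul, q4, q4, h3, h4, k1, k2]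
  simp only [MulAut.one_apply]
  ring

theorem psi_U4 {c : MulAut (Q1 φ)} (hc : c ∈ CQ φ) (w : F) : psi c (U4 φ w) = 0 := by
  unfold psi
  rw [CQ_center hc (U4_mem_center w), sub_self]

theorem eq_one_of_psi {c : MulAut (Q1 φ)} (hc : c ∈ CQ φ) (h6 : ∀ u, psi c (U6 φ u) = 0)
    (h5 : ∀ u, psi c (U5 φ u) = 0) (h3 : ∀ u, psi c (U3 φ u) = 0) (h2 : ∀ u, psi c (U2 φ u) = 0) : c = 1 := by
  apply MulEquiv.ext
  intro e
  rw [psi_spec hc e, decomp e, psi_mul hc, psi_mul hc, psi_mul hc, psi_mul hc, h6, h5, h3, h2, psi_U4 hc, add_zero,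
    add_zero, add_zero, add_zero, show U4 φ 0 = 1 from rfl, mul_one]
  rfl

/-! ### The torus acts without fixed points on `CQ` for `q > 2` -/

theorem exists_TQ (hG : StGrpD.{u}) (h : HypD φ p n) (s : K) (t : F) (hs : s ≠ 0) (ht : t ≠ 0) :
    ∃ δ : MulAut (Q1 φ), IsTQ δ s t := by
  obtain ⟨α, hα⟩ := (hG h).2.2.1 s t (RingEquiv.refl K) (RingEquiv.refl F) hs ht (fun _ => rfl)
  let δ : MulAut (Q1 φ) :=
    { toFun := fun e => ⟨α e, Sy.map_Q1 α e.2⟩
      invFun := fun e => ⟨α.symm e, Sy.map_Q1 α.symm e.2⟩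
      left_inv := fun e => Subtype.ext (α.symm_apply_apply e)
      right_inv := fun e => Subtype.ext (α.apply_symm_apply e)
      map_mul' := fun e f => Subtype.ext (map_mul α (e : Sy φ) (f : Sy φ)) }
  have hδ : ∀ e : Q1 φ, ((δ e : Q1 φ) : Sy φ) = α e := fun _ => rfl
  refine ⟨δ, hs, ht, ?_, ?_, ?_, ?_, ?_⟩ <;> intro e <;> rw [hδ]
  · exact hα.x6 e
  · exact hα.x5 e
  · exact hα.x3 e
  · exact hα.x2 e
  · exact hα.x4 e

theorem TQ_res (hG : StGrpD.{u}) (h : HypD φ p n) {Γ : Subgroup (MulAut (Q1 φ))} {D : Subgroup (MulAut (Sy φ))}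
    (hP : Par p (Q1 φ) Γ D) (hT : HasT D) : TQ φ ≤ Γ := by
  rintro δ ⟨s, t, hst⟩
  obtain ⟨α, hα⟩ := (hG h).2.2.1 s t (RingEquiv.refl K) (RingEquiv.refl F) hst.nes hst.net (fun _ => rfl)
  refine hP.D_res α (hT s t α hα) δ ?_
  intro e
  ext
  · rw [q1, hα.x1, q1]
    simp
  · rw [hst.x6, hα.x6]; rfl
  · rw [hst.x5, hα.x5]; rfl
  · rw [hst.x3, hα.x3]; rfl
  · rw [hst.x2, hα.x2]; rfl
  · rw [hst.x4, hα.x4]; rfl

theorem psi_TQ {c δ : MulAut (Q1 φ)} (hcd : δ * c = c * δ) {s : K} {t : F} (h : IsTQ δ s t) (e : Q1 φ) :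
    psi c (δ e) = nm φ s * t ^ 2 * psi c e := by
  unfold psi
  have h1 : c (δ e) = δ (c e) := by
    rw [← MulAut.mul_apply, ← hcd, MulAut.mul_apply]
  rw [h1, h.x4, h.x4]
  ring

theorem add_zero_of_inv {A : K → F} (hA : ∀ x y, A (x + y) = A x + A y) (h : ∀ k x, k ≠ 0 → A (k * x) = A x)
    (hφ : ∃ t : K, φ t ≠ t) : ∀ x, A x = 0 := by
  obtain ⟨θ, hθ⟩ := hφ
  have h0 : θ ≠ 0 := by
    rintro rfl
    exact hθ (map_zero φ)
  have h1 : (1 : K) + θ ≠ 0 := by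
    intro h1
    apply hθ
    have : θ = -1 := by linear_combination h1
    rw [this, map_neg, map_one]
  have h2 : ∀ k : K, k ≠ 0 → A k = A 1 := by
    intro k hk
    rw [← h k 1 hk, mul_one]
  have h3 := hA 1 θ
  rw [h2 _ h1, h2 θ h0] at h3
  have h4 : A 1 = 0 := by linear_combination -h3
  intro x
  by_cases hx : x = 0
  · have := hA 0 0
    rw [add_zero] at this
    rw [hx]
    linear_combination -this
  · rw [h2 x hx, h4]

theorem TQ_fix (hG : StGrpD.{u}) (h : HypD φ p n) (h2 : p ^ n ≠ 2) {c : MulAut (Q1 φ)} (hc : c ∈ CQ φ)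
    (hcd : ∀ d ∈ TQ φ, d * c = c * d) : c = 1 := by
  obtain ⟨s0, hs0, hns0⟩ := exists_nm h h2
  have hn0 : nm φ s0 ≠ 0 := fun h0 => hs0 ((nm_eq_zero φ).1 h0)
  apply eq_one_of_psi hc
  · intro u
    obtain ⟨δ, hδ⟩ := exists_TQ hG h s0 1 hs0 one_ne_zero
    have h3 := psi_TQ (hcd δ ⟨_, _, hδ⟩) hδ (U6 φ u)
    have h4 : δ (U6 φ u) = U6 φ u := by
      apply ext5
      · rw [hδ.x6, one_mul]
      · rw [hδ.x5]; change (1 : F) • (s0 * 0) = 0; simp
      · rw [hδ.x3]; change (1 : F) • (_ * 0) = 0; simp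
      · rw [hδ.x2]; change _ * 0 = (0 : F); simp
      · rw [hδ.x4]; change _ * 0 = (0 : F); simp
    rw [h4, one_pow, mul_one] at h3
    have h5 : (nm φ s0 - 1) * psi c (U6 φ u) = 0 := by linear_combination -h3
    exact (mul_eq_zero.1 h5).resolve_left (sub_ne_zero.2 hns0)
  · apply add_zero_of_inv (φ := φ) (A := fun x => psi c (U5 φ x))
    · intro x y
      rw [U5_add, psi_mul hc]
    · intro k x hk
      have hnk : nm φ k ≠ 0 := fun h0 => hk ((nm_eq_zero φ).1 h0)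
      have hs : (nm φ k)⁻¹ • k ≠ 0 := smul_ne_zero (inv_ne_zero hnk) hk
      obtain ⟨δ, hδ⟩ := exists_TQ hG h ((nm φ k)⁻¹ • k) (nm φ k) hs hnk
      have h3 := psi_TQ (hcd δ ⟨_, _, hδ⟩) hδ (U5 φ x)
      have h4 : δ (U5 φ x) = U5 φ (k * x) := by
        apply ext5
        · rw [hδ.x6]; change _ * 0 = (0 : F); simp
        · rw [hδ.x5]
          change nm φ k • ((nm φ k)⁻¹ • k * x) = k * x
          rw [smul_mul_assoc, smul_smul, mul_inv_cancel₀ hnk, one_smul]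
        · rw [hδ.x3]; change _ • (_ * 0) = (0 : K); simp
        · rw [hδ.x2]; change _ * 0 = (0 : F); simp
        · rw [hδ.x4]; change _ * 0 = (0 : F); simp
      rw [h4, nm_smul] at h3
      rw [h3]
      field_simp
    · exact Cub.ne
  · apply add_zero_of_inv (φ := φ) (A := fun x => psi c (U3 φ x))
    · intro x y
      rw [U3_add, psi_mul hc]
    · intro k x hk
      have hnk : nm φ k ≠ 0 := fun h0 => hk ((nm_eq_zero φ).1 h0)
      have hs : sh φ k ≠ 0 := fun h0 => hk ((sh_eq_zero φ).1 h0)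
      obtain ⟨δ, hδ⟩ := exists_TQ hG h (sh φ k) (nm φ k)⁻¹ hs (inv_ne_zero hnk)
      have h3 := psi_TQ (hcd δ ⟨_, _, hδ⟩) hδ (U3 φ x)
      have h4 : δ (U3 φ x) = U3 φ (k * x) := by
        apply ext5
        · rw [hδ.x6]; change _ * 0 = (0 : F); simp
        · rw [hδ.x5]; change _ • (_ * 0) = (0 : K); simp
        · rw [hδ.x3]
          change (nm φ k)⁻¹ • (sh φ (sh φ k) * x) = k * x
          rw [sh_sh, smul_mul_assoc, smul_smul, inv_mul_cancel₀ hnk, one_smul]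
        · rw [hδ.x2]; change _ * 0 = (0 : F); simp
        · rw [hδ.x4]; change _ * 0 = (0 : F); simp
      have h5 : nm φ (sh φ k) = nm φ k ^ 2 := by fk φ
      rw [h4, h5] at h3
      rw [h3]
      field_simp
    · exact Cub.ne
  · intro u
    obtain ⟨δ, hδ⟩ := exists_TQ hG h s0 (nm φ s0)⁻¹ hs0 (inv_ne_zero hn0)
    have h3 := psi_TQ (hcd δ ⟨_, _, hδ⟩) hδ (U2 φ u)
    have h4 : δ (U2 φ u) = U2 φ u := by
      apply ext5
      · rw [hδ.x6]; change _ * 0 = (0 : F); simp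
      · rw [hδ.x5]; change _ • (s0 * 0) = (0 : K); simp
      · rw [hδ.x3]; change _ • (_ * 0) = (0 : K); simp
      · rw [hδ.x2, mul_inv_cancel₀ hn0, one_mul]
      · rw [hδ.x4]; change _ * 0 = (0 : F); simp
    rw [h4] at h3
    have h5 : (nm φ s0 - 1) * psi c (U2 φ u) = 0 := by
      have h6 : nm φ s0 * (nm φ s0)⁻¹ ^ 2 = (nm φ s0)⁻¹ := by field_simp
      rw [h6] at h3
      have h7 : nm φ s0 * psi c (U2 φ u) = psi c (U2 φ u) := by
        conv_lhs => rw [h3]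
        rw [mul_inv_cancel_left₀ hn0]
      linear_combination h7
    exact (mul_eq_zero.1 h5).resolve_left (sub_ne_zero.2 hns0)

/-! ### `q = 2` -/

theorem trdual (h : HypD φ p n) (h2 : p ^ n = 2) {A : K → F} (hA : ∀ x y, A (x + y) = A x + A y) :
    ∃ a : K, ∀ x, A x = tr φ (a * x) := by
  have := h.fin
  have := finF h
  have hF : ∀ u : F, u = 0 ∨ u = 1 := by
    intro u
    have h3 := h.card
    rw [h2] at h3
    obtain ⟨y, hy, hy'⟩ := (Nat.card_eq_two_iff' (0 : F)).1 h3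
    by_cases hu : u = 0
    · exact Or.inl hu
    · right
      rw [hy' u hu, hy' 1 one_ne_zero]
  let B : K →ₗ[F] Module.Dual F K := LinearMap.mk₂ F (fun a x => tr φ (a * x))
    (fun a b x => by rw [add_mul, tr_add]) (fun u a x => by rw [smul_mul_assoc, tr_smul]; rfl)
    (fun a x y => by rw [mul_add, tr_add]) (fun u a x => by rw [mul_smul_comm, tr_smul]; rfl)
  have hinj : Function.Injective B := by
    rw [injective_iff_map_eq_zero]
    intro a ha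
    apply tr_nondeg φ
    intro t
    exact congrArg (fun f : Module.Dual F K => f t) ha
  have hsurj : Function.Surjective B :=
    (LinearMap.injective_iff_surjective_of_finrank_eq_finrank (Subspace.dual_finrank_eq).symm).1 hinj
  have h0 : A 0 = 0 := by
    have := hA 0 0
    rw [add_zero] at this
    linear_combination -this
  let A' : Module.Dual F K :=
    { toFun := A
      map_add' := hA
      map_smul' := by
        intro u x
        rcases hF u with rfl | rfl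
        · rw [zero_smul, h0]; simp
        · rw [one_smul]; simp }
  obtain ⟨a, ha⟩ := hsurj A'
  exact ⟨a, fun x => (congrArg (fun f : Module.Dual F K => f x) ha).symm⟩

theorem CQ_le_two (h : HypD φ p n) (h2 : p ^ n = 2) : CQ φ ≤ autInducedBy ⊤ (Q1 φ) := by
  intro c hc
  have hF : ∀ u : F, u = 0 ∨ u = 1 := by
    intro u
    have h3 := h.card
    rw [h2] at h3
    obtain ⟨y, hy, hy'⟩ := (Nat.card_eq_two_iff' (0 : F)).1 h3
    by_cases hu : u = 0
    · exact Or.inl hu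
    · right
      rw [hy' u hu, hy' 1 one_ne_zero]
  have h1 : psi c 1 = 0 := by
    have := psi_mul hc 1 1
    rw [mul_one] at this
    linear_combination -this
  obtain ⟨a5, ha5⟩ := trdual h h2 (A := fun x => psi c (U5 φ x)) (fun x y => by
    rw [U5_add, psi_mul hc])
  obtain ⟨a3, ha3⟩ := trdual h h2 (A := fun x => psi c (U3 φ x)) (fun x y => by
    rw [U3_add, psi_mul hc])
  have h6 : ∀ u, psi c (U6 φ u) = u * psi c (U6 φ 1) := by
    intro u
    rcases hF u with rfl | rfl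
    · rw [zero_mul]; exact h1
    · rw [one_mul]
  have h2' : ∀ u, psi c (U2 φ u) = u * psi c (U2 φ 1) := by
    intro u
    rcases hF u with rfl | rfl
    · rw [zero_mul]; exact h1
    · rw [one_mul]
  let x : Q1 φ := ⟨{ x1 := 0, x6 := psi c (U2 φ 1), x5 := -a3, x3 := a5, x2 := -psi c (U6 φ 1), x4 := 0 }, rfl⟩
  have hpsi : ∀ e : Q1 φ, psi c e = form (x : Sy φ) (e : Sy φ) := by
    intro e
    conv_lhs => rw [decomp e]
    have e5 := ha5 (e : Sy φ).x5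
    have e3 := ha3 (e : Sy φ).x3
    rw [psi_mul hc, psi_mul hc, psi_mul hc, psi_mul hc, psi_U4 hc, h6, h2', e5, e3]
    change _ = psi c (U2 φ 1) * (e : Sy φ).x2 - (-psi c (U6 φ 1)) * (e : Sy φ).x6 - tr φ (-a3 * (e : Sy φ).x3)
      + tr φ (a5 * (e : Sy φ).x5)
    rw [neg_mul a3, tr_neg]
    ring
  rw [mem_autInducedBy_iff]
  refine ⟨x, Subgroup.mem_top _, fun e => ?_⟩
  have h3 : x * e * x⁻¹ = ⁅x, e⁆ * e := by rw [commutatorElement_def]; group
  have h4 : c e = x * e * x⁻¹ := by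
    rw [h3, comm_eq, ← hpsi e, psi_spec hc e]
    exact Subgroup.mem_center_iff.1 (U4_mem_center _) e
  rw [h4]
  rfl

/-! ### The main theorem -/

theorem w1_mem (hN : StNLift.{u}) (hG : StGrpD.{u}) (h : HypD φ p n) {Γ : Subgroup (MulAut (Q1 φ))}
    {D : Subgroup (MulAut (Sy φ))} (hP : Par p (Q1 φ) Γ D) (hT : HasT D) {w γ₀ : MulAut (Q1 φ)} (hw : IsW1 w)
    (hγ : γ₀ ∈ Γ) (hs : Same1 γ₀ w) : w ∈ Γ := by
  have := h.fin
  have := finF h
  have : Fact p.Prime := ⟨h.pp⟩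
  have h1 : w * γ₀⁻¹ ∈ CQ φ := by
    have := (CQ φ).inv_mem (same_iff.1 hs)
    rwa [mul_inv_rev, inv_inv] at this
  by_cases h2 : p ^ n = 2
  · have h3 := Γ.mul_mem (hP.indu (CQ_le_two h h2 h1)) hγ
    rwa [inv_mul_cancel_right] at h3
  · refine hN (CQ φ) Γ (TQ φ) inferInstance (CQ_pgroup h) (TQ_res hG h hP hT) (TQ_coprime h)
      (fun c hc hcd => TQ_fix hG h h2 hc hcd) w γ₀ hγ h1 ?_
    rintro d ⟨s, t, hd⟩
    exact ⟨_, _, w1_conj hw hd⟩

theorem CQ_inf_le (h : HypD φ p n) {Γ : Subgroup (MulAut (Q1 φ))}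
    {D : Subgroup (MulAut (Sy φ))} (hP : Par p (Q1 φ) Γ D) : CQ φ ⊓ Γ ≤ autInducedBy ⊤ (Q1 φ) := by
  have hp : IsPGroup p (CQ φ ⊓ Γ : Subgroup (MulAut (Q1 φ))) := (CQ_pgroup h).to_le inf_le_left
  obtain ⟨g, hg, hgx⟩ := hP.syl _ inf_le_right hp
  rintro c ⟨hc, hcΓ⟩
  have h1 : g⁻¹ * c * g ∈ CQ φ ⊓ Γ := by
    refine ⟨?_, Γ.mul_mem (Γ.mul_mem (Γ.inv_mem hg) hcΓ) hg⟩
    have := CQ_normal.conj_mem c hc g⁻¹
    rwa [inv_inv] at this
  have h2 := hgx _ h1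
  have h3 : g * (g⁻¹ * c * g) * g⁻¹ = c := by group
  rwa [h3] at h2

/-- (L1) -/
theorem stL1 (hN : StNLift.{u}) (hG : StGrpD.{u}) (h1a : StL1a.{u}) : StL1.{u} := by
  intro F K _ _ _ φ _ p n h Γ D hP hT γ
  obtain ⟨-, hL, hR⟩ := h1a h Γ D hP (fun _ α hα => hT _ _ α hα)
  have hLam : Lam1 φ ≤ Γ := by
    refine sup_le hP.indu ?_
    rw [Subgroup.closure_le]
    intro w hw
    have hwL : w ∈ Lam1 φ := Subgroup.mem_sup_right (Subgroup.subset_closure hw)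
    obtain ⟨γ₀, hγ₀, hs⟩ := hL w hwL
    exact w1_mem hN hG h hP hT hw hγ₀ hs
  constructor
  · intro hγ
    obtain ⟨l, hl, d, hd, δ, hdδ, hs⟩ := hR γ hγ
    have hδ : δ ∈ Γ := hP.D_res d hd δ hdδ
    have h1 : γ * (l * δ)⁻¹ ∈ CQ φ ⊓ Γ :=
      ⟨same_iff.1 hs, Γ.mul_mem hγ (Γ.inv_mem (Γ.mul_mem (hLam hl) hδ))⟩
    have h2 := CQ_inf_le h hP h1
    refine ⟨γ * (l * δ)⁻¹ * l, (Lam1 φ).mul_mem (Subgroup.mem_sup_left h2) hl, d, hd, δ, hdδ, ?_⟩
    group
  · rintro ⟨l, hl, d, hd, δ, hdδ, rfl⟩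
    exact Γ.mul_mem (hLam hl) (hP.D_res d hd δ hdδ)

end Cfsg.Agent.H131.D3L1
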